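import Groth.Agent.Lib.Helper6.PtExt.PEb
import Groth.Agent.Lib.Helper9.Cartier3
import Groth.Agent.Lib.Helper9.Cartier6
import Groth.Agent.Lib.Helper9.ActRep

/-!
# Rational points separate a reduced commutative Hopf algebra over an algebraically closed field;
Cartier's theorem for Hopf algebras of arbitrary size; stability under rational points (helper6)
-/

set_option autoImplicit false
set_option linter.unusedSectionVars false
set_option linter.unusedVariables false
set_option linter.unusedSimpArgs false
set_option linter.style.haveILetI false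
set_option linter.overlappingInstances false
set_option maxHeartbeats 800000
set_option synthInstance.maxHeartbeats 400000

noncomputable section

namespace Groth.Agent.Lib.Helper6.PtExt

open TensorProduct Groth.Agent.Helper2.FF Groth.Agent.Helper9

universe u v w

variable {k : Type u} [Field k] {A : Type v} [CommRing A] [HopfAlgebra k A]

/-- an element killed by all rational points is nilpotent -/
theorem isNilpotent_of_forall_point [IsAlgClosed k] (a : A)
    (h : ∀ g : A →ₐ[k] k, g a = 0) : IsNilpotent a := by
  obtain ⟨B, haB, hfg, h1, h2⟩ :=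
    Groth.Agent.Helper2.HopfFGU.exists_fg_hopf_subalgebra (k := k) a
  have hB : HS B := HS_of_isHopfSub B h1 h2
  by_contra hnil
  have hb : ¬ IsNilpotent (⟨a, haB⟩ : B) := by
    intro hb
    apply hnil
    obtain ⟨n, hn⟩ := hb
    refine ⟨n, ?_⟩
    have := congrArg (B.val) hn
    simpa using this
  haveI : Algebra.FiniteType k B := (Subalgebra.fg_iff_finiteType B).mp hfg
  haveI : Nontrivial (Localization.Away (⟨a, haB⟩ : B)) := by
    rw [← not_subsingleton_iff_nontrivial,
      IsLocalization.subsingleton_iff (M := Submonoid.powers (⟨a, haB⟩ : B))]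
    rintro ⟨n, hn⟩
    exact hb ⟨n, hn⟩
  haveI : Algebra.FiniteType k (Localization.Away (⟨a, haB⟩ : B)) :=
    Algebra.FiniteType.trans (S := B) inferInstance inferInstance
  obtain ⟨p⟩ := exists_algHom_of_finiteType_algClosed k (Localization.Away (⟨a, haB⟩ : B))
  let q : B →ₐ[k] k := p.comp (IsScalarTower.toAlgHom k B (Localization.Away (⟨a, haB⟩ : B)))
  obtain ⟨g, hg⟩ := exists_extend B hB q
  have h3 : q ⟨a, haB⟩ = 0 := by
    rw [← hg ⟨a, haB⟩]
    exact h g
  have h4 : IsUnit (algebraMap B (Localization.Away (⟨a, haB⟩ : B)) ⟨a, haB⟩) :=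
    IsLocalization.Away.algebraMap_isUnit _
  have h5 : IsUnit (q ⟨a, haB⟩) := h4.map p
  rw [h3] at h5
  exact not_isUnit_zero h5

/-- Cartier's theorem without finiteness: a commutative Hopf algebra over a field of
characteristic zero is reduced -/
theorem isReduced_charZero [CharZero k] : IsReduced A := by
  refine ⟨fun a ha => ?_⟩
  obtain ⟨B, haB, hfg, h1, h2⟩ :=
    Groth.Agent.Helper2.HopfFGU.exists_fg_hopf_subalgebra (k := k) a
  have hB : HS B := HS_of_isHopfSub B h1 h2
  have hΔ : ∀ b : B, Coalgebra.comul (R := k) (B.val b) ∈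
      (Groth.Agent.Helper2.HopfSub.ι₂ B.val).range := fun b => hB.1 b b.2
  have hS : ∀ b : B, HopfAlgebra.antipode k (B.val b) ∈ B.val.range :=
    fun b => ⟨⟨_, hB.2 b b.2⟩, rfl⟩
  letI : HopfAlgebra k B :=
    Groth.Agent.Helper2.HopfSub.hopfAlgebraB (ι := B.val) Subtype.val_injective hΔ hS
  haveI : Algebra.FiniteType k B := (Subalgebra.fg_iff_finiteType B).mp hfg
  haveI : IsReduced B := CartierLib.isReduced k B
  have hb : IsNilpotent (⟨a, haB⟩ : B) := by
    obtain ⟨n, hn⟩ := ha
    exact ⟨n, Subtype.ext (by simpa using hn)⟩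
  have := hb.eq_zero
  exact congrArg Subtype.val this

/-- over an algebraically closed field of characteristic zero, a subspace of a comodule stable under
all rational points is a subcomodule (no finiteness assumptions) -/
theorem isSubcomod_of_stable [IsAlgClosed k] [CharZero k] (V : Type w) [AddCommGroup V]
    [Module k V] [HopfRep.Comod k A V] (W : Submodule k V)
    (hW : ∀ g : A →ₐ[k] k, W.map (HopfRep.Comod.act k A V g) ≤ W) :
    HopfRep.IsSubcomod (k := k) (A := A) W := by
  haveI : IsReduced A := isReduced_charZero (k := k)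
  intro w hw
  rw [← rTensor_mkQ, LinearMap.mem_ker]
  apply CartierLib.eq_zero_of_lid_rTensor_eq_zero
  intro φ
  have hnil : IsNilpotent (TensorProduct.lid k A (φ.rTensor A
      (W.mkQ.rTensor A (HopfRep.Comod.coact (k := k) (A := A) w)))) := by
    apply isNilpotent_of_forall_point (k := k)
    intro g
    have h1 := CartierLib.apply_slice (A := A) φ g.toLinearMap
      (W.mkQ.rTensor A (HopfRep.Comod.coact (k := k) (A := A) w))
    rw [slice_rTensor] at h1
    have h2 : slice g.toLinearMap (HopfRep.Comod.coact (k := k) (A := A) w) ∈ W := by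
      apply hW g
      refine ⟨w, hw, ?_⟩
      rw [ActRep.act_eq_slice]
    rw [Submodule.mkQ_apply, (Submodule.Quotient.mk_eq_zero W).mpr h2, map_zero] at h1
    exact h1.symm
  exact hnil.eq_zero

end Groth.Agent.Lib.Helper6.PtExt
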