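import Groth.Agent.Lib.Helper6.PtExt.PEa

/-!
# Extension of rational points along sub-Hopf-algebras: the Zorn argument (helper6)
-/

set_option autoImplicit false
set_option linter.unusedSectionVars false
set_option linter.unusedVariables false
set_option linter.unusedSimpArgs false
set_option linter.style.haveILetI false
set_option linter.overlappingInstances false
set_option maxHeartbeats 800000
set_option synthInstance.maxHeartbeats 400000

noncomputable section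

namespace Groth.Agent.Lib.Helper6.PtExt

open TensorProduct Groth.Agent.Helper2.FF

universe u v

section Chain

variable {k : Type u} [CommRing k] {R : Type v} [CommRing R] [Algebra k R]

lemma mem_sSup_of_chain (c : Set (Subalgebra k R)) (hc : IsChain (· ≤ ·) c) (hne : c.Nonempty)
    (x : R) : x ∈ sSup c ↔ ∃ s ∈ c, x ∈ s := by
  haveI : Nonempty c := hne.to_subtype
  have hdir : Directed (· ≤ ·) (fun s : c => (s : Subalgebra k R)) :=
    hc.directedOn.directed_val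
  rw [sSup_eq_iSup', ← SetLike.mem_coe, Subalgebra.coe_iSup_of_directed hdir, Set.mem_iUnion]
  constructor
  · rintro ⟨s, hs⟩
    exact ⟨s.1, s.2, hs⟩
  · rintro ⟨s, hs, hx⟩
    exact ⟨⟨s, hs⟩, hx⟩

end Chain

variable {k : Type u} [Field k] {A : Type v} [CommRing A] [HopfAlgebra k A]

/-- graph of a partial point -/
def graph (C : Subalgebra k A) (f : C →ₐ[k] k) : Subalgebra k (A × k) :=
  (AlgHom.prod C.val f).range

lemma mem_graph {C : Subalgebra k A} {f : C →ₐ[k] k} {p : A × k} :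
    p ∈ graph C f ↔ ∃ h : p.1 ∈ C, f ⟨p.1, h⟩ = p.2 := by
  constructor
  · rintro ⟨c, rfl⟩
    exact ⟨c.2, rfl⟩
  · rintro ⟨h, hf⟩
    exact ⟨⟨p.1, h⟩, Prod.ext rfl hf⟩

lemma map_fst_graph (C : Subalgebra k A) (f : C →ₐ[k] k) :
    (graph C f).map (AlgHom.fst k A k) = C := by
  ext a
  constructor
  · rintro ⟨p, hp, rfl⟩
    exact (mem_graph.mp hp).1
  · intro ha
    exact ⟨(a, f ⟨a, ha⟩), mem_graph.mpr ⟨ha, rfl⟩, rfl⟩

/-- the admissible graphs -/
def Adm (B : Subalgebra k A) (q : B →ₐ[k] k) : Set (Subalgebra k (A × k)) :=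
  {S | (∀ p ∈ S, p.1 = 0 → p.2 = 0) ∧ HS (S.map (AlgHom.fst k A k)) ∧ graph B q ≤ S}

lemma exists_ofGraph (S : Subalgebra k (A × k)) (hS : ∀ p ∈ S, p.1 = 0 → p.2 = 0) :
    ∃ f : (S.map (AlgHom.fst k A k) : Subalgebra k A) →ₐ[k] k,
      ∀ p (hp : p ∈ S), f ⟨p.1, ⟨p, hp, rfl⟩⟩ = p.2 := by
  let φ : S →ₐ[k] (S.map (AlgHom.fst k A k) : Subalgebra k A) :=
    ((AlgHom.fst k A k).comp S.val).codRestrict _ (fun s => ⟨s.1, s.2, rfl⟩)
  have hinj : Function.Injective φ := by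
    rw [injective_iff_map_eq_zero]
    intro s hs
    have h1 : (s : A × k).1 = 0 := congrArg Subtype.val hs
    have h2 := hS s.1 s.2 h1
    exact Subtype.ext (Prod.ext h1 h2)
  have hsurj : Function.Surjective φ := by
    rintro ⟨a, p, hp, rfl⟩
    exact ⟨⟨p, hp⟩, rfl⟩
  let e := AlgEquiv.ofBijective φ ⟨hinj, hsurj⟩
  refine ⟨((AlgHom.snd k A k).comp S.val).comp (e.symm : _ →ₐ[k] S), ?_⟩
  intro p hp
  have h1 : e.symm ⟨p.1, ⟨p, hp, rfl⟩⟩ = ⟨p, hp⟩ := by
    rw [AlgEquiv.symm_apply_eq]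
    rfl
  show ((AlgHom.snd k A k).comp S.val) (e.symm ⟨p.1, ⟨p, hp, rfl⟩⟩) = p.2
  rw [h1]
  rfl

lemma sSup_mem_Adm (B : Subalgebra k A) (q : B →ₐ[k] k) (c : Set (Subalgebra k (A × k)))
    (hcs : c ⊆ Adm B q) (hc : IsChain (· ≤ ·) c) (y : Subalgebra k (A × k)) (hy : y ∈ c) :
    sSup c ∈ Adm B q := by
  have hmem := mem_sSup_of_chain c hc ⟨y, hy⟩
  refine ⟨?_, ⟨?_, ?_⟩, ?_⟩
  · intro p hp h0
    obtain ⟨s, hs, hps⟩ := (hmem p).mp hp
    exact (hcs hs).1 p hps h0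
  · rintro b ⟨p, hp, rfl⟩
    obtain ⟨s, hs, hps⟩ := (hmem p).mp hp
    have h1 := (hcs hs).2.1.1 _ ⟨p, hps, rfl⟩
    exact range_map_val_mono (Subalgebra.map_mono (le_sSup hs)) h1
  · rintro b ⟨p, hp, rfl⟩
    obtain ⟨s, hs, hps⟩ := (hmem p).mp hp
    have h1 := (hcs hs).2.1.2 _ ⟨p, hps, rfl⟩
    exact Subalgebra.map_mono (le_sSup hs) h1
  · exact (hcs hy).2.2.trans (le_sSup hy)

/-- **Extension of points**: over an algebraically closed field a rational point of a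
sub-Hopf-algebra extends to the whole (commutative) Hopf algebra. -/
theorem exists_extend [IsAlgClosed k] (B : Subalgebra k A) (hB : HS B) (q : B →ₐ[k] k) :
    ∃ g : A →ₐ[k] k, ∀ b : B, g (b : A) = q b := by
  classical
  have h0 : graph B q ∈ Adm B q := by
    refine ⟨?_, ?_, le_rfl⟩
    · intro p hp h0
      obtain ⟨h, hf⟩ := mem_graph.mp hp
      rw [← hf]
      have : (⟨p.1, h⟩ : B) = 0 := Subtype.ext h0
      rw [this, map_zero]
    · rw [map_fst_graph]
      exact hB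
  obtain ⟨S, hS0, hSmax⟩ := zorn_le_nonempty₀ (Adm B q)
    (fun c hcs hc y hy => ⟨sSup c, sSup_mem_Adm B q c hcs hc y hy, fun z hz => le_sSup hz⟩)
    (graph B q) h0
  obtain ⟨hSf, hSHS, hSB⟩ := hSmax.prop
  obtain ⟨f, hf⟩ := exists_ofGraph S hSf
  have hCtop : (S.map (AlgHom.fst k A k) : Subalgebra k A) = ⊤ := by
    by_contra hne
    obtain ⟨x, hx⟩ : ∃ x : A, x ∉ (S.map (AlgHom.fst k A k) : Subalgebra k A) := by
      by_contra h
      push Not at h
      exact hne (eq_top_iff.mpr fun a _ => h a)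
    obtain ⟨C₁, hxC₁, hfg, h1, h2⟩ :=
      Groth.Agent.Helper2.HopfFGU.exists_fg_hopf_subalgebra (k := k) x
    have hC₁ : HS C₁ := HS_of_isHopfSub C₁ h1 h2
    obtain ⟨f', hf'⟩ := exists_extend_sup (S.map (AlgHom.fst k A k)) C₁ hSHS hfg f
    have hS' : graph (S.map (AlgHom.fst k A k) ⊔ C₁) f' ∈ Adm B q := by
      refine ⟨?_, ?_, ?_⟩
      · intro p hp h0
        obtain ⟨h, hff⟩ := mem_graph.mp hp
        rw [← hff]
        have : (⟨p.1, h⟩ : (S.map (AlgHom.fst k A k) ⊔ C₁ : Subalgebra k A)) = 0 :=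
          Subtype.ext h0
        rw [this, map_zero]
      · rw [map_fst_graph]
        exact HS_sup hSHS hC₁
      · intro p hp
        have hpS : p ∈ S := hSB hp
        have hpC : p.1 ∈ (S.map (AlgHom.fst k A k) : Subalgebra k A) := ⟨p, hpS, rfl⟩
        rw [mem_graph]
        refine ⟨(le_sup_left : _ ≤ S.map (AlgHom.fst k A k) ⊔ C₁) hpC, ?_⟩
        have h3 := hf' ⟨p.1, hpC⟩
        rw [hf p hpS] at h3
        exact h3
    have hSS' : S ≤ graph (S.map (AlgHom.fst k A k) ⊔ C₁) f' := by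
      intro p hp
      have hpC : p.1 ∈ (S.map (AlgHom.fst k A k) : Subalgebra k A) := ⟨p, hp, rfl⟩
      rw [mem_graph]
      refine ⟨(le_sup_left : _ ≤ S.map (AlgHom.fst k A k) ⊔ C₁) hpC, ?_⟩
      have h3 := hf' ⟨p.1, hpC⟩
      rw [hf p hp] at h3
      exact h3
    have hle := hSmax.le_of_ge hS' hSS'
    have hx' : x ∈ ((graph (S.map (AlgHom.fst k A k) ⊔ C₁) f').map (AlgHom.fst k A k) :
        Subalgebra k A) := by
      rw [map_fst_graph]
      exact (le_sup_right : C₁ ≤ S.map (AlgHom.fst k A k) ⊔ C₁) hxC₁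
    exact hx (Subalgebra.map_mono hle hx')
  have hmem : ∀ a : A, (AlgHom.id k A) a ∈ (S.map (AlgHom.fst k A k) : Subalgebra k A) := by
    intro a
    rw [hCtop]
    exact Algebra.mem_top
  refine ⟨f.comp (AlgHom.codRestrict (AlgHom.id k A) _ hmem), ?_⟩
  intro b
  have hp : ((b : A), q b) ∈ S := hSB (mem_graph.mpr ⟨b.2, rfl⟩)
  exact hf _ hp

end Groth.Agent.Lib.Helper6.PtExt
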