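import Mathlib
import Groth.Agent.Lib.Helper6.PtExt.PEc

/-!
# Rational points of an affine group scheme over an algebraically closed field are dense (helper6)
-/

set_option autoImplicit false
set_option linter.unusedSectionVars false
set_option linter.unusedVariables false
set_option linter.unusedSimpArgs false
set_option linter.style.haveILetI false
set_option linter.overlappingInstances false
set_option maxHeartbeats 800000
set_option synthInstance.maxHeartbeats 400000

noncomputable section

namespace Groth.Agent.Lib.Helper6.PtExt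

open CategoryTheory MonoidalCategory CartesianMonoidalCategory MonObj GrpObj AlgebraicGeometry
  Opposite

universe u v

section Hopf

variable {k : Type u} [Field k] {A : Type v} [CommRing A] [HopfAlgebra k A]

/-- rational points are dense in the prime spectrum of a commutative Hopf algebra over an
algebraically closed field -/
theorem dense_points_spec [IsAlgClosed k] :
    Dense {x : PrimeSpectrum A | ∃ ψ : A →ₐ[k] k,
      PrimeSpectrum.comap (ψ : A →+* k) (IsLocalRing.closedPoint k) = x} := by
  rw [PrimeSpectrum.isTopologicalBasis_basic_opens.dense_iff]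
  rintro _ ⟨a, rfl⟩ hne
  have hnil : ¬ IsNilpotent a := by
    intro h
    have h1 := (PrimeSpectrum.basicOpen_eq_bot_iff a).mpr h
    obtain ⟨x, hx⟩ := hne
    have hx' : x ∈ (PrimeSpectrum.basicOpen a) := hx
    rw [h1] at hx'
    exact hx'
  have hex : ∃ ψ : A →ₐ[k] k, ψ a ≠ 0 := by
    by_contra hcon
    push Not at hcon
    exact hnil (isNilpotent_of_forall_point (k := k) a hcon)
  obtain ⟨ψ, hψ⟩ := hex
  refine ⟨PrimeSpectrum.comap (ψ : A →+* k) (IsLocalRing.closedPoint k), ?_, ⟨ψ, rfl⟩⟩
  show a ∉ (PrimeSpectrum.comap (ψ : A →+* k) (IsLocalRing.closedPoint k)).asIdeal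
  rw [PrimeSpectrum.comap_asIdeal, Ideal.mem_comap]
  intro hmem
  have h2 : (ψ : A →+* k) a ∈ IsLocalRing.maximalIdeal k := hmem
  rw [IsLocalRing.mem_maximalIdeal, mem_nonunits_iff] at h2
  exact h2 (isUnit_iff_ne_zero.mpr hψ)

end Hopf

section Scheme

variable (k : Type u) [Field k]

/-- an affine group scheme over a field is the spectrum of a Hopf algebra -/
theorem exists_hopf_iso (G : Over (Spec (CommRingCat.of k))) [GrpObj G] [IsAffine G.left] :
    ∃ (H : Type u) (_ : CommRing H) (_ : HopfAlgebra k H),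
      Nonempty ((algSpec (CommRingCat.of k)).obj (op (CommAlgCat.of k H)) ≅ G) := by
  have h : (hopfSpec (CommRingCat.of k)).essImage (Grp.mk G) := by
    rw [essImage_hopfSpec]
    infer_instance
  obtain ⟨Hop, ⟨e⟩⟩ := h
  exact ⟨Hop.unop, inferInstance, inferInstance, ⟨(Grp.forget _).mapIso e⟩⟩

/-- the rational point of `Spec H` attached to an algebra map `H → k` -/
def ptOfAlgHom {H : Type u} [CommRing H] [Algebra k H] (ψ : H →ₐ[k] k) :
    𝟙_ (Over (Spec (CommRingCat.of k))) ⟶
      (algSpec (CommRingCat.of k)).obj (op (CommAlgCat.of k H)) :=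
  Over.homMk (Spec.map (CommRingCat.ofHom (ψ : H →+* k))) (by
    show Spec.map (CommRingCat.ofHom (ψ : H →+* k)) ≫
      Spec.map (CommRingCat.ofHom (algebraMap k H)) = 𝟙 _
    rw [← Spec.map_comp, ← CommRingCat.ofHom_comp]
    have h1 : ((ψ : H →+* k)).comp (algebraMap k H) = RingHom.id k := by
      ext c
      simp
    rw [h1]
    exact Spec.map_id _)

lemma ptOfAlgHom_left {H : Type u} [CommRing H] [Algebra k H] (ψ : H →ₐ[k] k) :
    (ptOfAlgHom k ψ).left = Spec.map (CommRingCat.ofHom (ψ : H →+* k)) := rfl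

theorem dense_points_scheme [IsAlgClosed k] (G : Over (Spec (CommRingCat.of k))) [GrpObj G]
    [IsAffine G.left] :
    Dense {x : ↥G.left | ∃ g : 𝟙_ (Over (Spec (CommRingCat.of k))) ⟶ G,
      g.left.base (IsLocalRing.closedPoint k) = x} := by
  obtain ⟨H, _, _, ⟨e⟩⟩ := exists_hopf_iso k G
  let φ : Spec (CommRingCat.of H) ≅ G.left := (Over.forget _).mapIso e
  have hd : Dense {x : PrimeSpectrum H | ∃ ψ : H →ₐ[k] k,
      PrimeSpectrum.comap (ψ : H →+* k) (IsLocalRing.closedPoint k) = x} :=
    dense_points_spec (k := k) (A := H)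
  have hd2 := (Scheme.homeoOfIso φ).surjective.denseRange.dense_image
    (Scheme.homeoOfIso φ).continuous hd
  refine hd2.mono ?_
  rintro _ ⟨x, ⟨ψ, rfl⟩, rfl⟩
  refine ⟨ptOfAlgHom k ψ ≫ e.hom, ?_⟩
  rfl

end Scheme

end Groth.Agent.Lib.Helper6.PtExt
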