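import Mathlib
import Groth.Agent.Lib.Helper2.FF.Union
import Groth.Agent.Lib.Helper2.FF.Points

/-!
# Extension of rational points along sub-Hopf-algebras (helper6)

Over an algebraically closed field `k`, a `k`-point of a sub-Hopf-algebra `B` of a commutative Hopf
algebra `A` (of arbitrary size) extends to a `k`-point of `A`.  One-step extension.
-/

set_option autoImplicit false
set_option linter.unusedSectionVars false
set_option linter.unusedVariables false
set_option linter.unusedSimpArgs false
set_option linter.style.haveILetI false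
set_option linter.overlappingInstances false
set_option maxHeartbeats 800000
set_option synthInstance.maxHeartbeats 400000

noncomputable section

namespace Groth.Agent.Lib.Helper6.PtExt

open TensorProduct Groth.Agent.Helper2.FF

universe u v

variable {k : Type u} [Field k] {A : Type v} [CommRing A] [HopfAlgebra k A]

/-- one-step extension of a point of a sub-Hopf-algebra `C` to `C ⊔ C₁`, `C₁` finitely generated -/
theorem exists_extend_sup [IsAlgClosed k] (C C₁ : Subalgebra k A) (hC : HS C) (hfg : C₁.FG)
    (f : C →ₐ[k] k) : ∃ f' : (C ⊔ C₁ : Subalgebra k A) →ₐ[k] k,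
      ∀ c : C, f' (Subalgebra.inclusion le_sup_left c) = f c := by
  haveI : Module.FaithfullyFlat C A := faithfullyFlat_of_HS C hC
  have hfs : Function.Surjective (f : C →+* k) := by
    intro c
    exact ⟨algebraMap k C c, f.commutes c⟩
  have hker : (RingHom.ker (f : C →+* k)).IsMaximal := RingHom.ker_isMaximal_of_surjective _ hfs
  let J : Ideal A := Ideal.map (algebraMap C A) (RingHom.ker (f : C →+* k))
  have hJ : J ≠ ⊤ := by
    intro h
    have h1 := Ideal.comap_map_eq_self_of_faithfullyFlat (B := A) (RingHom.ker (f : C →+* k))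
    have h2 : Ideal.map (algebraMap C A) (RingHom.ker (f : C →+* k)) = ⊤ := h
    rw [h2, Ideal.comap_top] at h1
    exact hker.ne_top h1.symm
  let π : A →ₐ[k] (A ⧸ J) := Ideal.Quotient.mkₐ k J
  have hπC : ∀ c : C, π (c : A) = algebraMap k (A ⧸ J) (f c) := by
    intro c
    have h1 : c - algebraMap k C (f c) ∈ RingHom.ker (f : C →+* k) := by
      rw [RingHom.mem_ker]
      show f (c - algebraMap k C (f c)) = 0
      rw [map_sub, AlgHom.commutes]
      simp
    have h2 : algebraMap C A (c - algebraMap k C (f c)) ∈ J := Ideal.mem_map_of_mem _ h1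
    have h3 : π ((c : A) - algebraMap k A (f c)) = 0 := by
      show Ideal.Quotient.mk J ((c : A) - algebraMap k A (f c)) = 0
      rw [Ideal.Quotient.eq_zero_iff_mem]
      exact h2
    rw [map_sub, sub_eq_zero] at h3
    rw [h3, AlgHom.commutes]
  let R₁ : Subalgebra k (A ⧸ J) := C₁.map π
  haveI : Algebra.FiniteType k R₁ := (Subalgebra.fg_iff_finiteType R₁).mp (hfg.map π)
  haveI : Nontrivial (A ⧸ J) := Ideal.Quotient.nontrivial_iff.mpr hJ
  obtain ⟨p⟩ := exists_algHom_of_finiteType_algClosed k R₁
  have himg : ∀ d : (C ⊔ C₁ : Subalgebra k A), (π.comp (C ⊔ C₁).val) d ∈ R₁ := by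
    intro d
    have hle : C ⊔ C₁ ≤ R₁.comap π := by
      apply sup_le
      · intro c hc
        rw [Subalgebra.mem_comap, hπC ⟨c, hc⟩]
        exact Subalgebra.algebraMap_mem _ _
      · intro c hc
        exact ⟨c, hc, rfl⟩
    exact hle d.2
  refine ⟨p.comp ((π.comp (C ⊔ C₁).val).codRestrict R₁ himg), ?_⟩
  intro c
  have h1 : ((π.comp (C ⊔ C₁).val).codRestrict R₁ himg) (Subalgebra.inclusion le_sup_left c) =
      algebraMap k R₁ (f c) := Subtype.ext (hπC c)
  rw [AlgHom.comp_apply, h1, AlgHom.commutes]
  rfl

end Groth.Agent.Lib.Helper6.PtExt
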