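import Mathlib
import Groth.Agent.Lib.Helper6.PtExt.PEd
import Groth.Agent.Lib.Helper2.FF.Epi

/-!
# Surjective homomorphisms of affine group schemes over an algebraically closed field are
surjective on rational points (helper6)
-/

set_option autoImplicit false
set_option linter.unusedSectionVars false
set_option linter.unusedVariables false
set_option linter.unusedSimpArgs false
set_option linter.style.haveILetI false
set_option linter.overlappingInstances false
set_option maxHeartbeats 800000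
set_option synthInstance.maxHeartbeats 400000

noncomputable section

namespace Groth.Agent.Lib.Helper6.PtExt

open CategoryTheory MonoidalCategory CartesianMonoidalCategory MonObj GrpObj AlgebraicGeometry
  Opposite Groth.Agent.Helper2.FF

universe u v w

section Hopf

variable {k : Type u} [Field k] {H' : Type v} {H : Type w} [CommRing H'] [CommRing H]
  [HopfAlgebra k H'] [HopfAlgebra k H]

/-- rational points lift along bialgebra maps, provided they kill the kernel -/
theorem exists_extend_of_bialgHom [IsAlgClosed k] (φ : H' →ₐc[k] H) (ξ : H' →ₐ[k] k)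
    (hξ : ∀ a, φ a = 0 → ξ a = 0) : ∃ g : H →ₐ[k] k, ∀ a, g (φ a) = ξ a := by
  have hB : HS (φ : H' →ₐ[k] H).range := HS_range φ
  have hsurj : Function.Surjective (φ : H' →ₐ[k] H).rangeRestrict :=
    AlgHom.rangeRestrict_surjective _
  have hker : RingHom.ker (φ : H' →ₐ[k] H).rangeRestrict.toRingHom ≤ RingHom.ker ξ.toRingHom := by
    intro a ha
    rw [RingHom.mem_ker] at ha ⊢
    apply hξ a
    exact congrArg Subtype.val ha
  let q : (φ : H' →ₐ[k] H).range →ₐ[k] k :=
    AlgHom.liftOfSurjective (φ : H' →ₐ[k] H).rangeRestrict hsurj ξ hker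
  obtain ⟨g, hg⟩ := exists_extend (φ : H' →ₐ[k] H).range hB q
  refine ⟨g, fun a => ?_⟩
  have h1 := hg ((φ : H' →ₐ[k] H).rangeRestrict a)
  rw [AlgHom.liftOfSurjective_apply] at h1
  exact h1

/-- if `Spec φ` is surjective then `ker φ` consists of nilpotent elements -/
lemma isNilpotent_of_comap_surjective {R S : Type*} [CommRing R] [CommRing S] (φ : R →+* S)
    (hs : Function.Surjective (PrimeSpectrum.comap φ)) (a : R) (ha : φ a = 0) :
    IsNilpotent a := by
  rw [← mem_nilradical, nilradical_eq_sInf, Ideal.mem_sInf]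
  intro 𝔮 h𝔮
  obtain ⟨𝔭, h𝔭⟩ := hs ⟨𝔮, h𝔮⟩
  have h1 : a ∈ (PrimeSpectrum.comap φ 𝔭).asIdeal := by
    rw [PrimeSpectrum.comap_asIdeal, Ideal.mem_comap, ha]
    exact 𝔭.asIdeal.zero_mem
  rw [h𝔭] at h1
  exact h1

end Hopf

section Scheme

variable (k : Type u) [Field k]

/-- every rational point of `Spec H` comes from an algebra map `H → k` -/
lemma exists_eq_ptOfAlgHom {H : Type u} [CommRing H] [Algebra k H]
    (p : 𝟙_ (Over (Spec (CommRingCat.of k))) ⟶
      (algSpec (CommRingCat.of k)).obj (op (CommAlgCat.of k H))) :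
    ∃ ψ : H →ₐ[k] k, p = ptOfAlgHom k ψ := by
  have hw : p.left ≫ Spec.map (CommRingCat.ofHom (algebraMap k H)) = 𝟙 _ := Over.w p
  let ψ0 : H →+* k := (Spec.preimage p.left).hom
  have hψ0 : Spec.map (CommRingCat.ofHom ψ0) = p.left := by
    show Spec.map (CommRingCat.ofHom (Spec.preimage p.left).hom) = p.left
    rw [CommRingCat.ofHom_hom, Spec.map_preimage]
  have hcomm : ψ0.comp (algebraMap k H) = RingHom.id k := by
    have h1 : CommRingCat.ofHom (algebraMap k H) ≫ CommRingCat.ofHom ψ0 = 𝟙 _ := by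
      apply Spec.map_injective
      calc Spec.map (CommRingCat.ofHom (algebraMap k H) ≫ CommRingCat.ofHom ψ0)
          = Spec.map (CommRingCat.ofHom ψ0) ≫ Spec.map (CommRingCat.ofHom (algebraMap k H)) :=
            Spec.map_comp _ _
        _ = p.left ≫ Spec.map (CommRingCat.ofHom (algebraMap k H)) :=
            congrArg (fun f => f ≫ Spec.map (CommRingCat.ofHom (algebraMap k H))) hψ0
        _ = 𝟙 _ := hw
        _ = Spec.map (𝟙 _) := (Spec.map_id _).symm
    have h2 := congrArg CommRingCat.Hom.hom h1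
    exact h2
  refine ⟨⟨ψ0, fun c => by
    have := congrArg (fun f => f c) hcomm
    simpa using this⟩, ?_⟩
  apply Over.OverMorphism.ext
  rw [ptOfAlgHom_left]
  exact hψ0.symm

theorem points_surjective_scheme [IsAlgClosed k] (G G' : Over (Spec (CommRingCat.of k)))
    [GrpObj G] [GrpObj G'] [IsAffine G.left] [IsAffine G'.left] (h : G ⟶ G') [IsMonHom h]
    (hs : Surjective h.left) (x : 𝟙_ (Over (Spec (CommRingCat.of k))) ⟶ G') :
    ∃ g : 𝟙_ (Over (Spec (CommRingCat.of k))) ⟶ G, g ≫ h = x := by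
  have h1 : (hopfSpec (CommRingCat.of k)).essImage (Grp.mk G) := by
    rw [essImage_hopfSpec]
    infer_instance
  have h2 : (hopfSpec (CommRingCat.of k)).essImage (Grp.mk G') := by
    rw [essImage_hopfSpec]
    infer_instance
  obtain ⟨Hop, ⟨e⟩⟩ := h1
  obtain ⟨Hop', ⟨e'⟩⟩ := h2
  let hG : Grp.mk G ⟶ Grp.mk G' := Grp.homMk h
  let t : (hopfSpec (CommRingCat.of k)).obj Hop ⟶ (hopfSpec (CommRingCat.of k)).obj Hop' :=
    e.hom ≫ hG ≫ e'.inv
  have hfull : (hopfSpec (CommRingCat.of k)).Full := hopfSpec.instFull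
  obtain ⟨φop, hφ⟩ := (hopfSpec (CommRingCat.of k)).map_surjective t
  let φ : Hop'.unop →ₐc[k] Hop.unop := φop.unop.hom
  -- the underlying isomorphisms of schemes over `Spec k`
  let e0 : (algSpec (CommRingCat.of k)).obj (op (CommAlgCat.of k Hop.unop)) ≅ G :=
    (Grp.forget _).mapIso e
  let e0' : (algSpec (CommRingCat.of k)).obj (op (CommAlgCat.of k Hop'.unop)) ≅ G' :=
    (Grp.forget _).mapIso e'
  -- the square
  let Φ : (algSpec (CommRingCat.of k)).obj (op (CommAlgCat.of k Hop.unop)) ⟶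
      (algSpec (CommRingCat.of k)).obj (op (CommAlgCat.of k Hop'.unop)) :=
    ((hopfSpec (CommRingCat.of k)).map φop).hom.hom
  have hsq : Φ = e0.hom ≫ h ≫ e0'.inv := by
    show ((hopfSpec (CommRingCat.of k)).map φop).hom.hom = _
    rw [hφ]
    rfl
  have hΦleft : Φ.left = Spec.map (CommRingCat.ofHom (φ : Hop'.unop →+* Hop.unop)) := rfl
  have hsq_left : Spec.map (CommRingCat.ofHom (φ : Hop'.unop →+* Hop.unop)) =
      e0.hom.left ≫ h.left ≫ e0'.inv.left := by
    rw [← hΦleft, hsq]
    rfl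
  -- surjectivity of `Spec φ`
  have hsurj : Function.Surjective
      (PrimeSpectrum.comap (φ : Hop'.unop →+* Hop.unop)) := by
    have hs1 : Surjective (e0.hom.left ≫ h.left ≫ e0'.inv.left) := inferInstance
    rw [← hsq_left] at hs1
    exact hs1.surj
  -- the point of `Spec H'`
  obtain ⟨ξ, hξ⟩ := exists_eq_ptOfAlgHom k (x ≫ e0'.inv)
  have hξker : ∀ a, φ a = 0 → ξ a = 0 := by
    intro a ha
    have hnil := isNilpotent_of_comap_surjective (φ : Hop'.unop →+* Hop.unop) hsurj a ha
    exact (hnil.map ξ).eq_zero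
  obtain ⟨g, hg⟩ := exists_extend_of_bialgHom φ ξ hξker
  refine ⟨ptOfAlgHom k g ≫ e0.hom, ?_⟩
  have hcomp : ptOfAlgHom k g ≫ Φ = ptOfAlgHom k ξ := by
    apply Over.OverMorphism.ext
    show Spec.map (CommRingCat.ofHom (g : Hop.unop →+* k)) ≫
      Spec.map (CommRingCat.ofHom (φ : Hop'.unop →+* Hop.unop)) =
      Spec.map (CommRingCat.ofHom (ξ : Hop'.unop →+* k))
    rw [← Spec.map_comp, ← CommRingCat.ofHom_comp]
    congr 2
    ext a
    exact hg a
  have h3 : ptOfAlgHom k g ≫ e0.hom ≫ h ≫ e0'.inv = x ≫ e0'.inv := by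
    rw [← hsq, hcomp, hξ]
  have h4 := congrArg (fun f => f ≫ e0'.hom) h3
  simp only [Category.assoc, Iso.inv_hom_id, Category.comp_id] at h4
  exact h4

end Scheme

end Groth.Agent.Lib.Helper6.PtExt
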